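import Mathlib

/-!
# Same-order type with three values: abstract Frobenius data (row S3996, also S4004 part 1)

`s k` plays the role of the number of elements of order `k` in a group of order `N`;
`FD N s m n` records Frobenius' divisibility theorem and the fact that all nonzero values
`s k`, `k ≥ 3`, are `m` or `n`.  Everything in `Lib/SOT/SOT{O1,O2,O3,Odd,Ev4*}.lean` is pure
arithmetic over this structure.
-/

set_option autoImplicit false

namespace Cfsg.Agent.Lead.SOT

/-- Abstract Frobenius data. -/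
structure FD (N : ℕ) (s : ℕ → ℕ) (m n : ℕ) : Prop where
  frob : ∀ k, k ∣ N → k ∣ ∑ d ∈ k.divisors, s d
  one : s 1 = 1
  vals : ∀ k, 3 ≤ k → s k = 0 ∨ s k = m ∨ s k = n
  cauchy : ∀ p, p.Prime → p ∣ N → s p ≠ 0
  down : ∀ j k, j ∣ k → s k ≠ 0 → s j ≠ 0
  total : ∑ d ∈ N.divisors, s d = N
  pos : 0 < N

theorem FD.symm {N : ℕ} {s : ℕ → ℕ} {m n : ℕ} (h : FD N s m n) : FD N s n m :=
  ⟨h.frob, h.one, fun k hk => by
    rcases h.vals k hk with h0 | h1 | h2
    · exact Or.inl h0
    · exact Or.inr (Or.inr h1)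
    · exact Or.inr (Or.inl h2), h.cauchy, h.down, h.total, h.pos⟩

/-- Frobenius at a prime: `p ∣ 1 + s p`. -/
theorem FD.prime_dvd {N : ℕ} {s : ℕ → ℕ} {m n : ℕ} (h : FD N s m n) {p : ℕ} (hp : p.Prime)
    (hpN : p ∣ N) : p ∣ 1 + s p := by
  have := h.frob p hpN
  rwa [Nat.Prime.sum_divisors hp, h.one, add_comm] at this

/-- The value at an odd prime divisor of `N` is `m` or `n`. -/
theorem FD.prime_val {N : ℕ} {s : ℕ → ℕ} {m n : ℕ} (h : FD N s m n) {p : ℕ} (hp : p.Prime)
    (hp2 : p ≠ 2) (hpN : p ∣ N) : s p = m ∨ s p = n := by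
  have h3 : 3 ≤ p := by
    have := hp.two_le
    omega
  rcases h.vals p h3 with h0 | h1
  · exact absurd h0 (h.cauchy p hp hpN)
  · exact h1

/-- Splitting a divisor sum over a product of coprime numbers. -/
theorem sum_divisors_mul_coprime (s : ℕ → ℕ) {a b : ℕ} (hab : a.Coprime b) :
    ∑ d ∈ (a * b).divisors, s d = ∑ d₁ ∈ a.divisors, ∑ d₂ ∈ b.divisors, s (d₁ * d₂) := by
  rw [Nat.Coprime.divisors_mul hab, Finset.sum_map, ← Finset.sum_product']
  exact Finset.sum_attach (a.divisors ×ˢ b.divisors) (fun x => s (x.1 * x.2))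

end Cfsg.Agent.Lead.SOT
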