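import Mathlib
import Cfsg.Agent.Lib.SOT.SOTDefs

/-!
# Explicit divisor sums (piece SOT-DIV, row S3996; proved by helper2)
`Nat.Prime.sum_divisors`, `Nat.sum_divisors_prime_pow`, and the coprime splitting
`sum_divisors_mul_coprime` from SOTDefs.
-/

set_option autoImplicit false

namespace Cfsg.Agent.Lead.SOT

theorem sum_div_pq (s : ℕ → ℕ) {p q : ℕ} (hp : p.Prime) (hq : q.Prime) (hpq : p ≠ q) :
    ∑ d ∈ (p * q).divisors, s d = s 1 + s p + s q + s (p * q) := by
  rw [sum_divisors_mul_coprime s ((Nat.coprime_primes hp hq).2 hpq), hp.sum_divisors, hq.sum_divisors,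
    hq.sum_divisors, one_mul, one_mul, mul_one]
  ring

theorem sum_div_pql (s : ℕ → ℕ) {p q l : ℕ} (hp : p.Prime) (hq : q.Prime) (hl : l.Prime)
    (hpq : p ≠ q) (hpl : p ≠ l) (hql : q ≠ l) :
    ∑ d ∈ (p * q * l).divisors, s d
      = s 1 + s p + s q + s l + s (p * q) + s (p * l) + s (q * l) + s (p * q * l) := by
  have hc : (p * q).Coprime l :=
    Nat.Coprime.mul_left ((Nat.coprime_primes hp hl).2 hpl) ((Nat.coprime_primes hq hl).2 hql)
  rw [sum_divisors_mul_coprime s hc]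
  have h1 : ∀ d₁ ∈ (p * q).divisors, ∑ d₂ ∈ l.divisors, s (d₁ * d₂) = s (d₁ * l) + s d₁ := by
    intro d₁ _
    rw [hl.sum_divisors, mul_one]
  rw [Finset.sum_congr rfl h1, sum_div_pq (fun d => s (d * l) + s d) hp hq hpq]
  simp only [one_mul]
  ring

theorem sum_div_psq (s : ℕ → ℕ) {p : ℕ} (hp : p.Prime) :
    ∑ d ∈ (p ^ 2).divisors, s d = s 1 + s p + s (p ^ 2) := by
  rw [Nat.sum_divisors_prime_pow hp, Finset.sum_range_succ, Finset.sum_range_succ, Finset.sum_range_one,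
    pow_zero, pow_one]

theorem sum_div_four (s : ℕ → ℕ) : ∑ d ∈ (4 : ℕ).divisors, s d = s 1 + s 2 + s 4 := by
  have h := sum_div_psq s Nat.prime_two
  rwa [show (2 : ℕ) ^ 2 = 4 by norm_num] at h

end Cfsg.Agent.Lead.SOT
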