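import Mathlib
import Cfsg.Agent.Lib.Helper20.OrderCount
import Cfsg.Agent.Lib.SOT.SOTDefs

/-!
# Group side, part A: `FD` for the order-count function (piece SOT-GRPA, row S3996)
`ordCnt G k = Nat.card {g : G // orderOf g = k}` (Helper20.OrderCount; `totient_dvd_ordCnt`,
`ordCnt_pos_iff`, `ordCnt_one`, `natCard_eq_sum_ordCnt`, `frobenius_dvd_sum` are there).
RECIPES: `even_ordCnt`: `Nat.totient_even` + `totient_dvd_ordCnt`.  `total_ordCnt`:
`natCard_eq_sum_ordCnt` with `T = (Nat.card G).divisors` (`orderOf_dvd_natCard`).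
`ordCnt_down`: an element `g` of order `k = j * c` gives `g ^ c` of order `j`
(`orderOf_pow_of_dvd`/`orderOf_pow'`).  `ordCnt_prime_ne_zero`: Cauchy
(`exists_prime_orderOf_dvd_card'`).  `fd_of_vals`: assemble.  Aux names: prefix `sotgrpa_`.
-/

set_option autoImplicit false

namespace Cfsg.Agent.Lead.SOT

open Cfsg.Agent.Helper20 (ordCnt)

variable {G : Type*} [Group G] [Finite G]

theorem even_ordCnt {k : ℕ} (hk : 3 ≤ k) : Even (ordCnt G k) := by
  have h1 : Even (Nat.totient k) := Nat.totient_even (by omega)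
  have h2 : Nat.totient k ∣ ordCnt G k := Cfsg.Agent.Helper20.totient_dvd_ordCnt k
  exact h1.trans_dvd h2

theorem total_ordCnt : ∑ d ∈ (Nat.card G).divisors, ordCnt G d = Nat.card G := by
  refine (Cfsg.Agent.Helper20.natCard_eq_sum_ordCnt (G := G) (Nat.card G).divisors ?_).symm
  intro g
  rw [Nat.mem_divisors]
  exact ⟨orderOf_dvd_natCard g, Nat.card_pos.ne'⟩

theorem ordCnt_down {j k : ℕ} (hjk : j ∣ k) (hk : ordCnt G k ≠ 0) : ordCnt G j ≠ 0 := by
  obtain ⟨g, hg⟩ := (Cfsg.Agent.Helper20.ordCnt_pos_iff (G := G) k).1 (Nat.pos_of_ne_zero hk)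
  obtain ⟨c, rfl⟩ := hjk
  have hk0 : j * c ≠ 0 := by
    rw [← hg]
    exact (orderOf_pos g).ne'
  have hc0 : c ≠ 0 := fun h => hk0 (by rw [h, Nat.mul_zero])
  have hcd : c ∣ orderOf g := by
    rw [hg]
    exact Dvd.intro_left j rfl
  have h1 : orderOf (g ^ c) = j := by
    rw [orderOf_pow_of_dvd hc0 hcd, hg]
    exact Nat.mul_div_cancel j (Nat.pos_of_ne_zero hc0)
  exact ((Cfsg.Agent.Helper20.ordCnt_pos_iff (G := G) j).2 ⟨g ^ c, h1⟩).ne'

theorem ordCnt_prime_ne_zero {p : ℕ} (hp : p.Prime) (hpN : p ∣ Nat.card G) :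
    ordCnt G p ≠ 0 := by
  have _ : Fact p.Prime := ⟨hp⟩
  obtain ⟨g, hg⟩ := exists_prime_orderOf_dvd_card' (G := G) p hpN
  exact ((Cfsg.Agent.Helper20.ordCnt_pos_iff (G := G) p).2 ⟨g, hg⟩).ne'

theorem fd_of_vals {m n : ℕ}
    (hv : ∀ k, 3 ≤ k → ordCnt G k = 0 ∨ ordCnt G k = m ∨ ordCnt G k = n) :
    FD (Nat.card G) (ordCnt G) m n :=
  { frob := fun k hk => Cfsg.Agent.Helper20.frobenius_dvd_sum k hk
    one := Cfsg.Agent.Helper20.ordCnt_one
    vals := hv
    cauchy := fun _ hp hpN => ordCnt_prime_ne_zero hp hpN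
    down := fun _ _ hjk hk => ordCnt_down hjk hk
    total := total_ordCnt
    pos := Nat.card_pos }

end Cfsg.Agent.Lead.SOT
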