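import Mathlib
import Cfsg.Agent.Lib.Helper20.OrderCount
import Cfsg.Agent.Lib.SOT.SOTDefs

/-!
# Group side, part B: unpacking the hypothesis of S3996 (piece SOT-GRPB)
RECIPE: `Set.ncard_eq_three` gives `x y z` pairwise distinct with image `= {x, y, z}`;
`1 = ordCnt G (orderOf 1)` lies in the image, so one of `x, y, z` is `1`; the other two are
`m, n`.  Every `ordCnt G (orderOf g)` lies in the image.  (`ordCnt G k` is by `rfl`
`Nat.card {g : G // orderOf g = k}`.)  Aux names: prefix `sotgrpb_`.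
-/

set_option autoImplicit false

namespace Cfsg.Agent.Lead.SOT

open Cfsg.Agent.Helper20 (ordCnt)

variable {G : Type*} [Group G] [Finite G]

omit [Finite G] in
/-- The number of elements of order `1` is `1`. -/
theorem sotgrpb_one : Nat.card {g : G // orderOf g = 1} = 1 := by
  rw [Nat.card_eq_one_iff_unique]
  refine ⟨⟨?_⟩, ⟨⟨1, orderOf_one⟩⟩⟩
  rintro ⟨a, ha⟩ ⟨b, hb⟩
  rw [orderOf_eq_one_iff] at ha hb
  subst ha hb
  rfl

theorem vals_of_ncard
    (h : (((fun m : ℕ => Nat.card {g : G // orderOf g = m}) ''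
      Set.range (orderOf : G → ℕ))).ncard = 3) :
    ∃ m n : ℕ, m ≠ 1 ∧ n ≠ 1 ∧ m ≠ n ∧ ∀ g : G, ordCnt G (orderOf g) = 1 ∨
      ordCnt G (orderOf g) = m ∨ ordCnt G (orderOf g) = n := by
  obtain ⟨x, y, z, hxy, hxz, hyz, hS⟩ := Set.ncard_eq_three.1 h
  have hmem : ∀ g : G, Nat.card {a : G // orderOf a = orderOf g} ∈ ({x, y, z} : Set ℕ) := by
    intro g
    rw [← hS]
    exact ⟨orderOf g, ⟨g, rfl⟩, rfl⟩
  have hall : ∀ g : G, ordCnt G (orderOf g) = x ∨ ordCnt G (orderOf g) = y ∨
      ordCnt G (orderOf g) = z := by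
    intro g
    have := hmem g
    simp only [Set.mem_insert_iff, Set.mem_singleton_iff] at this
    exact this
  have h1 : (1 : ℕ) ∈ ({x, y, z} : Set ℕ) := by
    have := hmem (1 : G)
    rwa [orderOf_one, sotgrpb_one] at this
  simp only [Set.mem_insert_iff, Set.mem_singleton_iff] at h1
  rcases h1 with h1 | h1 | h1
  · subst h1
    refine ⟨y, z, fun h => hxy h.symm, fun h => hxz h.symm, hyz, fun g => ?_⟩
    exact hall g
  · subst h1
    refine ⟨x, z, hxy, fun h => hyz h.symm, hxz, fun g => ?_⟩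
    rcases hall g with h | h | h
    · exact Or.inr (Or.inl h)
    · exact Or.inl h
    · exact Or.inr (Or.inr h)
  · subst h1
    refine ⟨x, y, hxz, hyz, hxy, fun g => ?_⟩
    rcases hall g with h | h | h
    · exact Or.inr (Or.inl h)
    · exact Or.inr (Or.inr h)
    · exact Or.inl h

end Cfsg.Agent.Lead.SOT
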