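import Mathlib
import Cfsg.Agent.Lib.SOT.SOTDefs
import Cfsg.Agent.Lib.SOT.SOTDiv

/-!
# Two odd primes in the same class (piece SOT-O1, row S3996)
PROOF. `p ∣ 1 + m`, `q ∣ 1 + m` (`FD.prime_dvd`).  Frobenius at `p*q` (`h.frob`, `sum_div_pq`,
`h.one`): `p*q ∣ 1 + m + m + s (p*q)`.  Mod `p`: `1 + 2m ≡ -1`, so `s (p*q) ≡ 1 (mod p)`.
By `h.vals (p*q)`: `s (p*q) = 0` is impossible (`p ≥ 3`), `s (p*q) = m` is impossible
(`m ≡ -1 ≢ 1 mod p`, p odd), hence `s (p*q) = n` and `n % p = 1`; same mod `q`.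
Finally `m ≠ n` since `m ≡ -1` and `n ≡ 1 (mod p)`.  Aux names: prefix `soto1_`.
-/

set_option autoImplicit false

namespace Cfsg.Agent.Lead.SOT

/-- from `p ∣ 1 + m` and `p * q ∣ 1 + m + m + t` get `t % p = 1` (p ≥ 3) -/
theorem soto1_mod {p q m t : ℕ} (hp3 : 3 ≤ p) (h1 : p ∣ 1 + m) (h2 : p * q ∣ 1 + m + m + t) :
    t % p = 1 := by
  obtain ⟨a, ha⟩ := h1
  obtain ⟨c, hc⟩ := h2
  have e : t + p * (2 * a) = p * (q * c) + 1 := by
    have : p * (2 * a) = 2 * (1 + m) := by rw [ha]; ring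
    rw [this]
    have : p * (q * c) = 1 + m + m + t := by rw [hc]; ring
    rw [this]; ring
  have h3 : (t + p * (2 * a)) % p = t % p := Nat.add_mul_mod_self_left t p (2 * a)
  have h4 : (p * (q * c) + 1) % p = 1 % p := by
    rw [add_comm]; exact Nat.add_mul_mod_self_left 1 p (q * c)
  have h5 : 1 % p = 1 := Nat.mod_eq_of_lt (by omega)
  rw [← h3, e, h4, h5]

theorem soto1_not_both {p m : ℕ} (hp3 : 3 ≤ p) (h1 : p ∣ m + 1) (h2 : m % p = 1) : False := by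
  obtain ⟨a, ha⟩ := h1
  have h3 : (m + 1) % p = 0 := by rw [ha]; exact Nat.mul_mod_right p a
  have h4 : (m + 1) % p = (m % p + 1 % p) % p := Nat.add_mod m 1 p
  rw [h2, Nat.mod_eq_of_lt (show 1 < p by omega)] at h4
  rw [h4] at h3
  have : (1 + 1) % p = 2 := Nat.mod_eq_of_lt (by omega)
  omega

theorem FD.same_class {N : ℕ} {s : ℕ → ℕ} {m n : ℕ} (h : FD N s m n) {p q : ℕ}
    (hp : p.Prime) (hq : q.Prime) (hp2 : p ≠ 2) (hq2 : q ≠ 2) (hpq : p ≠ q)
    (hpN : p ∣ N) (hqN : q ∣ N) (hsp : s p = m) (hsq : s q = m) :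
    s (p * q) = n ∧ n % p = 1 ∧ n % q = 1 ∧ p ∣ m + 1 ∧ q ∣ m + 1 ∧ m ≠ n := by
  have hp3 : 3 ≤ p := by have := hp.two_le; omega
  have hq3 : 3 ≤ q := by have := hq.two_le; omega
  have hpm : p ∣ 1 + m := by have := h.prime_dvd hp hpN; rwa [hsp] at this
  have hqm : q ∣ 1 + m := by have := h.prime_dvd hq hqN; rwa [hsq] at this
  have hcop : p.Coprime q := (Nat.coprime_primes hp hq).2 hpq
  have hpqN : p * q ∣ N := hcop.mul_dvd_of_dvd_of_dvd hpN hqN
  have hf := h.frob (p * q) hpqN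
  rw [sum_div_pq s hp hq hpq, h.one, hsp, hsq] at hf
  have hf' : q * p ∣ 1 + m + m + s (p * q) := by rwa [mul_comm q p]
  have htp : s (p * q) % p = 1 := soto1_mod hp3 hpm hf
  have htq : s (p * q) % q = 1 := soto1_mod hq3 hqm hf'
  have hpm' : p ∣ m + 1 := by rwa [add_comm] at hpm
  have hqm' : q ∣ m + 1 := by rwa [add_comm] at hqm
  have h3 : 3 ≤ p * q := by nlinarith
  have hn : s (p * q) = n := by
    rcases h.vals (p * q) h3 with h0 | h1 | h1
    · rw [h0] at htp; simp at htp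
    · rw [h1] at htp; exact (soto1_not_both hp3 hpm' htp).elim
    · exact h1
  rw [hn] at htp htq
  refine ⟨hn, htp, htq, hpm', hqm', ?_⟩
  intro hmn
  rw [← hmn] at htp
  exact soto1_not_both hp3 hpm' htp

end Cfsg.Agent.Lead.SOT
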