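import Mathlib
import Cfsg.Agent.Lib.SOT.SOTDefs
import Cfsg.Agent.Lib.SOT.SOTDiv
import Cfsg.Agent.Lib.SOT.SOTO1

/-!
# Two odd primes in one class and one in the other: impossible (piece SOT-O2, row S3996)
PROOF. By `FD.same_class`: `s (p*q) = n`, `n ≡ 1`, `m ≡ -1 (mod p, q)`, `m ≠ n`; so `l ≠ p, q`
(as `s l = n ≠ m`).  `l ∣ 1 + n`.
Frobenius at `p*l` (`sum_div_pq`): `p*l ∣ 1 + m + n + s (p*l)`.  Mod `p`: `s (p*l) ≡ -1`, so
`s (p*l) = m` (`0` and `n ≡ 1` are impossible).  Mod `l`: `1 + m + n + m ≡ 2m`, so `l ∣ m`.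
Same for `q`: `s (q*l) = m`.
Frobenius at `p*q*l` (`sum_div_pql`): `l ∣ 1 + m + m + n + n + m + m + s (p*q*l)`; mod `l`
(`m ≡ 0`, `n ≡ -1`) this gives `s (p*q*l) ≡ 1 (mod l)`; but `0`, `m ≡ 0`, `n ≡ -1` are all
`≢ 1 (mod l)` (l odd ≥ 3): contradiction with `h.vals (p*q*l)`.  Aux names: prefix `soto2_`.
-/

set_option autoImplicit false

namespace Cfsg.Agent.Lead.SOT

theorem soto2_pl {N : ℕ} {s : ℕ → ℕ} {m n : ℕ} (h : FD N s m n) {p l : ℕ}
    (hp : p.Prime) (hl : l.Prime) (hp2 : p ≠ 2) (hl2 : l ≠ 2) (hpl : p ≠ l)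
    (hpN : p ∣ N) (hlN : l ∣ N) (hsp : s p = m) (hsl : s l = n) (hnp : n % p = 1)
    (hpm : p ∣ m + 1) : s (p * l) = m ∧ l ∣ m := by
  have hcop : p.Coprime l := (Nat.coprime_primes hp hl).2 hpl
  have hplN : p * l ∣ N := hcop.mul_dvd_of_dvd_of_dvd hpN hlN
  have hf := h.frob (p * l) hplN
  rw [sum_div_pq s hp hl hpl, h.one, hsp, hsl] at hf
  have hl1 : l ∣ 1 + n := by
    have := h.prime_dvd hl hlN
    rwa [hsl] at this
  have hp3 : 3 ≤ p := by
    have := hp.two_le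
    omega
  have hl3 : 3 ≤ l := by
    have := hl.two_le
    omega
  have h3 : 3 ≤ p * l := by nlinarith
  have hpdvd : p ∣ 1 + m + n + s (p * l) := dvd_trans (dvd_mul_right p l) hf
  have hldvd : l ∣ 1 + m + n + s (p * l) := dvd_trans (dvd_mul_left l p) hf
  have hpn : ¬ p ∣ n := by
    intro hd
    have := Nat.mod_eq_zero_of_dvd hd
    omega
  have hpx : p ∣ n + s (p * l) := by
    have he : 1 + m + n + s (p * l) = (m + 1) + (n + s (p * l)) := by ring
    rw [he] at hpdvd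
    exact (Nat.dvd_add_right hpm).1 hpdvd
  rcases h.vals (p * l) h3 with h0 | hm | hn
  · rw [h0, add_zero] at hpx
    exact absurd hpx hpn
  · refine ⟨hm, ?_⟩
    rw [hm] at hldvd
    have he : 1 + m + n + m = (1 + n) + 2 * m := by ring
    rw [he] at hldvd
    have h2m : l ∣ 2 * m := (Nat.dvd_add_right hl1).1 hldvd
    have hcop2 : l.Coprime 2 := (Nat.coprime_primes hl Nat.prime_two).2 hl2
    exact hcop2.dvd_of_dvd_mul_left h2m
  · rw [hn] at hpx
    have h2n : p ∣ 2 * n := by rwa [two_mul]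
    have hcop2 : p.Coprime 2 := (Nat.coprime_primes hp Nat.prime_two).2 hp2
    exact absurd (hcop2.dvd_of_dvd_mul_left h2n) hpn

theorem FD.mixed_false {N : ℕ} {s : ℕ → ℕ} {m n : ℕ} (h : FD N s m n) {p q l : ℕ}
    (hp : p.Prime) (hq : q.Prime) (hl : l.Prime) (hp2 : p ≠ 2) (hq2 : q ≠ 2) (hl2 : l ≠ 2)
    (hpq : p ≠ q) (hpN : p ∣ N) (hqN : q ∣ N) (hlN : l ∣ N)
    (hsp : s p = m) (hsq : s q = m) (hsl : s l = n) : False := by
  obtain ⟨hspq, hnp, hnq, hpm, hqm, hmn⟩ := h.same_class hp hq hp2 hq2 hpq hpN hqN hsp hsq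
  have hpl : p ≠ l := by
    rintro rfl
    exact hmn (hsp.symm.trans hsl)
  have hql : q ≠ l := by
    rintro rfl
    exact hmn (hsq.symm.trans hsl)
  obtain ⟨hspl, hlm⟩ := soto2_pl h hp hl hp2 hl2 hpl hpN hlN hsp hsl hnp hpm
  obtain ⟨hsql, -⟩ := soto2_pl h hq hl hq2 hl2 hql hqN hlN hsq hsl hnq hqm
  have hl1 : l ∣ 1 + n := by
    have := h.prime_dvd hl hlN
    rwa [hsl] at this
  have hl3 : 3 ≤ l := by
    have := hl.two_le
    omega
  have hp3 : 3 ≤ p := by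
    have := hp.two_le
    omega
  have hq3 : 3 ≤ q := by
    have := hq.two_le
    omega
  have hcpq : p.Coprime q := (Nat.coprime_primes hp hq).2 hpq
  have hcpl : p.Coprime l := (Nat.coprime_primes hp hl).2 hpl
  have hcql : q.Coprime l := (Nat.coprime_primes hq hl).2 hql
  have hpqN : p * q ∣ N := hcpq.mul_dvd_of_dvd_of_dvd hpN hqN
  have hpqlN : p * q * l ∣ N := (Nat.Coprime.mul_left hcpl hcql).mul_dvd_of_dvd_of_dvd hpqN hlN
  have hf := h.frob (p * q * l) hpqlN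
  rw [sum_div_pql s hp hq hl hpq hpl hql, h.one, hsp, hsq, hsl, hspq, hspl, hsql] at hf
  have hld : l ∣ 1 + m + m + n + n + m + m + s (p * q * l) := dvd_trans (dvd_mul_left l (p * q)) hf
  have he : 1 + m + m + n + n + m + m + s (p * q * l) = 4 * m + (1 + n + n + s (p * q * l)) := by
    ring
  rw [he] at hld
  have h4 : l ∣ 1 + n + n + s (p * q * l) := (Nat.dvd_add_right (dvd_mul_of_dvd_right hlm 4)).1 hld
  have h3 : 3 ≤ p * q * l := by nlinarith [Nat.mul_le_mul hp3 hq3]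
  obtain ⟨a, ha⟩ := h4
  obtain ⟨b, hb⟩ := hl1
  obtain ⟨c, hc⟩ := hlm
  have ha' : (1 : ℤ) + n + n + (s (p * q * l) : ℤ) = l * a := by exact_mod_cast ha
  have hb' : (1 : ℤ) + n = l * b := by exact_mod_cast hb
  have hc' : (m : ℤ) = l * c := by exact_mod_cast hc
  have hl1' : ¬ (l : ℤ) ∣ 1 := by
    intro hd
    have hd' : l ∣ 1 := by exact_mod_cast hd
    have := Nat.le_of_dvd Nat.one_pos hd'
    omega
  have hl2' : ¬ (l : ℤ) ∣ 2 := by
    intro hd
    have hd' : l ∣ 2 := by exact_mod_cast hd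
    have := Nat.le_of_dvd (by norm_num) hd'
    omega
  rcases h.vals (p * q * l) h3 with h0 | hm | hn
  · have h0' : (s (p * q * l) : ℤ) = 0 := by exact_mod_cast h0
    exact hl1' ⟨2 * b - a, by linear_combination 2 * hb' - ha' + h0'⟩
  · have hm' : (s (p * q * l) : ℤ) = m := by exact_mod_cast hm
    exact hl1' ⟨2 * b - a + c, by linear_combination 2 * hb' - ha' + hm' + hc'⟩
  · have hn' : (s (p * q * l) : ℤ) = n := by exact_mod_cast hn
    exact hl2' ⟨3 * b - a, by linear_combination 3 * hb' - ha' + hn'⟩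

end Cfsg.Agent.Lead.SOT
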