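import Mathlib
import Cfsg.Agent.Lib.SOT.SOTDefs
import Cfsg.Agent.Lib.SOT.SOTDiv
import Cfsg.Agent.Lib.SOT.SOTO1

/-!
# Odd `N`, all primes in the same class, at least two primes: impossible (piece SOT-O3)
PROOF. Let `r` be a prime divisor of `N` (odd), `a = N.factorization r`.  Pick another prime
`r' ∈ {p, q}`, `r' ≠ r`; `FD.same_class` for `(r, r')` gives `n % r = 1`, `r ∣ m + 1`.
CLAIM `r ^ a ∣ 1 + m`.  If `a ≥ 2`: Frobenius at `r^2` (`sum_div_psq`): `r^2 ∣ 1 + m + s (r^2)`;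
`s (r^2) = m` gives `1 + 2m ≡ -1 (mod r)`, `s (r^2) = n` gives `1 + m + n ≡ 1 (mod r)`: both
impossible, so `s (r^2) = 0`, hence `s (r^j) = 0` for all `j ≥ 2` (`h.down`, `r^2 ∣ r^j`).  Then
Frobenius at `r^a` with `Nat.sum_divisors_prime_pow`: the sum is `s 1 + s r = 1 + m`.
Hence `N ∣ 1 + m` (`Nat.dvd_iff_prime_pow_dvd_dvd` or factorization), so `N ≤ 1 + m`.
But `{1, p, q} ⊆ N.divisors` and `h.total` give `1 + m + m ≤ N`.  So `m = 0`, contradicting
`h.cauchy`.  Aux names: prefix `soto3_`.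
-/

set_option autoImplicit false

namespace Cfsg.Agent.Lead.SOT

theorem soto3_pow_dvd {N : ℕ} {s : ℕ → ℕ} {m n : ℕ} (h : FD N s m n) (hodd : Odd N)
    {p q : ℕ} (hp : p.Prime) (hq : q.Prime) (hpq : p ≠ q) (hpN : p ∣ N) (hqN : q ∣ N)
    (hall : ∀ r, r.Prime → r ∣ N → s r = m) {r : ℕ} (hr : r.Prime) (a : ℕ) (ha : 1 ≤ a)
    (hraN : r ^ a ∣ N) : r ^ a ∣ 1 + m := by
  have hrN : r ∣ N := dvd_trans (dvd_pow_self r (by omega)) hraN
  have hne2 : ∀ t, t.Prime → t ∣ N → t ≠ 2 := by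
    intro t _ htN h2
    subst h2
    rcases hodd with ⟨k, hk⟩
    obtain ⟨c, hc⟩ := htN
    omega
  obtain ⟨r', hr', hr'N, hrr'⟩ : ∃ r', r'.Prime ∧ r' ∣ N ∧ r ≠ r' := by
    by_cases hrp : r = p
    · exact ⟨q, hq, hqN, by rw [hrp]; exact hpq⟩
    · exact ⟨p, hp, hpN, hrp⟩
  obtain ⟨-, hnr, -, hrm, -, -⟩ := h.same_class hr hr' (hne2 r hr hrN) (hne2 r' hr' hr'N) hrr'
    hrN hr'N (hall r hr hrN) (hall r' hr' hr'N)
  have hrm' : r ∣ 1 + m := by rwa [add_comm] at hrm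
  have hr1 : ¬ r ∣ 1 := fun h1 => hr.one_lt.ne' (Nat.dvd_one.mp h1)
  -- `s (r ^ 2) = 0` if `r ^ 2 ∣ N`
  have hsq : r ^ 2 ∣ N → s (r ^ 2) = 0 := by
    intro h2N
    have hf := h.frob (r ^ 2) h2N
    rw [sum_div_psq s hr, h.one, hall r hr hrN] at hf
    have hr3 : 3 ≤ r ^ 2 := by
      have := hr.two_le
      nlinarith
    have hrdvd : r ∣ 1 + m + s (r ^ 2) := dvd_trans (dvd_pow_self r (by norm_num)) hf
    rcases h.vals (r ^ 2) hr3 with h0 | h1 | h1
    · exact h0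
    · exfalso
      rw [h1] at hrdvd
      have h3 : r ∣ m := (Nat.dvd_add_right hrm').mp hrdvd
      exact hr1 ((Nat.dvd_add_right h3).mp hrm)
    · exfalso
      rw [h1] at hrdvd
      have h3 : r ∣ n := (Nat.dvd_add_right hrm').mp hrdvd
      have h4 : n % r = 0 := Nat.mod_eq_zero_of_dvd h3
      omega
  have hzero : ∀ j, 2 ≤ j → r ^ j ∣ N → s (r ^ j) = 0 := by
    intro j hj hjN
    by_contra hne
    have h2 : r ^ 2 ∣ r ^ j := pow_dvd_pow r hj
    exact h.down (r ^ 2) (r ^ j) h2 hne (hsq (dvd_trans h2 hjN))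
  have hf := h.frob (r ^ a) hraN
  rw [Nat.sum_divisors_prime_pow hr] at hf
  obtain ⟨b, rfl⟩ : ∃ b, a = b + 1 := ⟨a - 1, by omega⟩
  rw [Finset.sum_range_succ', Finset.sum_range_succ'] at hf
  have hz : ∑ k ∈ Finset.range b, s (r ^ (k + 1 + 1)) = 0 := by
    apply Finset.sum_eq_zero
    intro k hk
    rw [Finset.mem_range] at hk
    apply hzero (k + 1 + 1) (by omega)
    exact dvd_trans (pow_dvd_pow r (by omega)) hraN
  rw [hz] at hf
  simp only [zero_add, pow_zero, pow_one] at hf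
  rw [h.one, hall r hr hrN] at hf
  rw [add_comm 1 m]
  exact hf

theorem FD.all_same_false {N : ℕ} {s : ℕ → ℕ} {m n : ℕ} (h : FD N s m n) (hodd : Odd N)
    {p q : ℕ} (hp : p.Prime) (hq : q.Prime) (hpq : p ≠ q) (hpN : p ∣ N) (hqN : q ∣ N)
    (hall : ∀ r, r.Prime → r ∣ N → s r = m) : False := by
  have hN : N ∣ 1 + m := by
    rw [Nat.dvd_iff_prime_pow_dvd_dvd]
    intro r k hr hk
    rcases Nat.eq_zero_or_pos k with rfl | hk0
    · simp
    · exact soto3_pow_dvd h hodd hp hq hpq hpN hqN hall hr k hk0 hk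
  have hle : N ≤ 1 + m := Nat.le_of_dvd (by omega) hN
  have hsub : ({1, p, q} : Finset ℕ) ⊆ N.divisors := by
    intro x hx
    simp only [Finset.mem_insert, Finset.mem_singleton] at hx
    rw [Nat.mem_divisors]
    refine ⟨?_, h.pos.ne'⟩
    rcases hx with rfl | rfl | rfl
    · exact one_dvd _
    · exact hpN
    · exact hqN
  have hsum := Finset.sum_le_sum_of_subset (f := s) hsub
  rw [h.total] at hsum
  have h1p : (1 : ℕ) ∉ ({p, q} : Finset ℕ) := by
    simp only [Finset.mem_insert, Finset.mem_singleton]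
    rintro (h1 | h1)
    · exact hp.one_lt.ne h1
    · exact hq.one_lt.ne h1
  have hpq' : p ∉ ({q} : Finset ℕ) := by
    simpa using hpq
  rw [Finset.sum_insert h1p, Finset.sum_insert hpq', Finset.sum_singleton, h.one,
    hall p hp hpN, hall q hq hqN] at hsum
  have hm0 : s p ≠ 0 := h.cauchy p hp hpN
  rw [hall p hp hpN] at hm0
  omega

end Cfsg.Agent.Lead.SOT
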