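import Mathlib
import Cfsg.Agent.Lib.SOT.SOTDefs
import Cfsg.Agent.Lib.SOT.SOTO1
import Cfsg.Agent.Lib.SOT.SOTO2
import Cfsg.Agent.Lib.SOT.SOTO3

/-!
# Odd `N`: at most two primes (piece SOT-ODD, row S3996; this is also S4004 part 1)
PROOF of `odd_same_class_false`: all primes dividing `N` are odd.  `s p ∈ {m, n}` by
`FD.prime_val`; by `FD.symm` WLOG `s p = s q = m`.  If some prime `l ∣ N` has `s l ≠ m` then
`s l = n` (`FD.prime_val`) and `FD.mixed_false` applies; otherwise `FD.all_same_false`.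
PROOF of `card_primeFactors_le_two`: if `3 ≤ card`, take three distinct primes
(`Finset.two_lt_card`), their values lie in `{m, n}`, two agree: `odd_same_class_false`.
Aux names: prefix `sotodd_`.
-/

set_option autoImplicit false

namespace Cfsg.Agent.Lead.SOT

theorem sotodd_ne_two {N : ℕ} (hodd : Odd N) {r : ℕ} (hr : r ∣ N) : r ≠ 2 := by
  intro h2
  subst h2
  exact (Nat.not_even_iff_odd.mpr hodd) (even_iff_two_dvd.mpr hr)

theorem sotodd_aux {N : ℕ} {s : ℕ → ℕ} {m n : ℕ} (h : FD N s m n) (hodd : Odd N)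
    {p q : ℕ} (hp : p.Prime) (hq : q.Prime) (hpq : p ≠ q) (hpN : p ∣ N) (hqN : q ∣ N)
    (hsp : s p = m) (hsq : s q = m) : False := by
  by_cases hall : ∀ r, r.Prime → r ∣ N → s r = m
  · exact h.all_same_false hodd hp hq hpq hpN hqN hall
  · push Not at hall
    obtain ⟨l, hl, hlN, hsl⟩ := hall
    have hl2 : l ≠ 2 := sotodd_ne_two hodd hlN
    rcases h.prime_val hl hl2 hlN with h1 | h1
    · exact absurd h1 hsl
    · exact h.mixed_false hp hq hl (sotodd_ne_two hodd hpN) (sotodd_ne_two hodd hqN) hl2 hpq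
        hpN hqN hlN hsp hsq h1

theorem FD.odd_same_class_false {N : ℕ} {s : ℕ → ℕ} {m n : ℕ} (h : FD N s m n) (hodd : Odd N)
    {p q : ℕ} (hp : p.Prime) (hq : q.Prime) (hpq : p ≠ q) (hpN : p ∣ N) (hqN : q ∣ N)
    (hs : s p = s q) : False := by
  rcases h.prime_val hp (sotodd_ne_two hodd hpN) hpN with h1 | h1
  · exact sotodd_aux h hodd hp hq hpq hpN hqN h1 (hs.symm.trans h1)
  · exact sotodd_aux h.symm hodd hp hq hpq hpN hqN h1 (hs.symm.trans h1)

theorem FD.card_primeFactors_le_two {N : ℕ} {s : ℕ → ℕ} {m n : ℕ} (h : FD N s m n)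
    (hodd : Odd N) : N.primeFactors.card ≤ 2 := by
  by_contra hc
  have hc' : 2 < N.primeFactors.card := by omega
  obtain ⟨a, b, c, ha, hb, hc2, hab, hac, hbc⟩ := Finset.two_lt_card_iff.mp hc'
  rw [Nat.mem_primeFactors] at ha hb hc2
  obtain ⟨hap, haN, _⟩ := ha
  obtain ⟨hbp, hbN, _⟩ := hb
  obtain ⟨hcp, hcN, _⟩ := hc2
  have va := h.prime_val hap (sotodd_ne_two hodd haN) haN
  have vb := h.prime_val hbp (sotodd_ne_two hodd hbN) hbN
  have vc := h.prime_val hcp (sotodd_ne_two hodd hcN) hcN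
  by_cases h1 : s a = s b
  · exact h.odd_same_class_false hodd hap hbp hab haN hbN h1
  · by_cases h2 : s a = s c
    · exact h.odd_same_class_false hodd hap hcp hac haN hcN h2
    · have h3 : s b = s c := by
        rcases va with ha | ha <;> rcases vb with hb | hb <;> rcases vc with hc3 | hc3
        · exact absurd (ha.trans hb.symm) h1
        · exact absurd (ha.trans hb.symm) h1
        · exact absurd (ha.trans hc3.symm) h2
        · exact hb.trans hc3.symm
        · exact hb.trans hc3.symm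
        · exact absurd (ha.trans hc3.symm) h2
        · exact absurd (ha.trans hb.symm) h1
        · exact absurd (ha.trans hb.symm) h1
      exact h.odd_same_class_false hodd hbp hcp hbc hbN hcN h3

end Cfsg.Agent.Lead.SOT
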