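import Mathlib
import Cfsg.Agent.S0144

/-!
# Solvability from Burnside's p^a q^b theorem (piece SOT-SOLV, row S3996)
`Cfsg.Agent.S0144.result (p q a b) (hp : p.Prime) (hq : q.Prime)
  (hcard : Nat.card G = p ^ a * q ^ b) : Group.IsSolvable G`  (check the exact binder shape in
Cfsg/Agent/S0144.lean).
RECIPES.  `solvable_of_card_primeFactors_le_two`: `Nat.factorization_prod_pow_eq_self`
(`N = ∏ p ∈ N.primeFactors, p ^ N.factorization p`) with `card = 0, 1, 2`
(`Finset.card_eq_zero/one/two`); for card 0: `N = 1 = 2^0 * 2^0`; card 1: `N = p^a * 2^0`.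
`solvable_of_one_odd_prime`: the prime factors are contained in `{2, p}`.
`solvable_of_index_two`: `solvable_of_ker_le_range K.subtype (QuotientGroup.mk' K)`, the quotient
has order 2 hence is cyclic hence commutative hence solvable.  Aux names: prefix `sotsolv_`.
-/

set_option autoImplicit false

namespace Cfsg.Agent.Lead.SOT

variable {G : Type*} [Group G] [Finite G]

theorem solvable_of_card_primeFactors_le_two (h : (Nat.card G).primeFactors.card ≤ 2) :
    Group.IsSolvable G := by
  have hN : Nat.card G ≠ 0 := Nat.card_pos.ne'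
  have hprod : ∏ p ∈ (Nat.card G).primeFactors, p ^ (Nat.card G).factorization p
      = Nat.card G := by
    rw [← Nat.prod_factorization_eq_prod_primeFactors]
    exact Nat.prod_factorization_pow_eq_self hN
  have hc : (Nat.card G).primeFactors.card = 0 ∨ (Nat.card G).primeFactors.card = 1 ∨
      (Nat.card G).primeFactors.card = 2 := by omega
  rcases hc with h0 | h1 | h2
  · rw [Finset.card_eq_zero] at h0
    rw [h0, Finset.prod_empty] at hprod
    exact Cfsg.Agent.S0144.result 2 2 0 0 Nat.prime_two Nat.prime_two (by rw [← hprod]; norm_num)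
  · obtain ⟨p, hp⟩ := Finset.card_eq_one.1 h1
    have hpp : p.Prime :=
      Nat.prime_of_mem_primeFactors (by rw [hp]; exact Finset.mem_singleton_self p)
    rw [hp, Finset.prod_singleton] at hprod
    exact Cfsg.Agent.S0144.result p 2 ((Nat.card G).factorization p) 0 hpp Nat.prime_two
      (by rw [pow_zero, mul_one]; exact hprod.symm)
  · obtain ⟨p, q, hpq, hp⟩ := Finset.card_eq_two.1 h2
    have hpp : p.Prime := Nat.prime_of_mem_primeFactors (by rw [hp]; simp)
    have hqp : q.Prime := Nat.prime_of_mem_primeFactors (by rw [hp]; simp)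
    rw [hp, Finset.prod_pair hpq] at hprod
    exact Cfsg.Agent.S0144.result p q _ _ hpp hqp hprod.symm

theorem solvable_of_one_odd_prime
    (h : ∀ p q : ℕ, p.Prime → q.Prime → p ≠ 2 → q ≠ 2 → p ∣ Nat.card G → q ∣ Nat.card G →
      p = q) : Group.IsSolvable G := by
  apply solvable_of_card_primeFactors_le_two
  by_cases hex : ∃ p, p.Prime ∧ p ≠ 2 ∧ p ∣ Nat.card G
  · obtain ⟨p0, hp0, hp02, hp0d⟩ := hex
    have hsub : (Nat.card G).primeFactors ⊆ {2, p0} := by
      intro q hq
      have hqp := Nat.prime_of_mem_primeFactors hq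
      have hqd := Nat.dvd_of_mem_primeFactors hq
      by_cases hq2 : q = 2
      · simp [hq2]
      · have := h q p0 hqp hp0 hq2 hp02 hqd hp0d
        simp [this]
    calc (Nat.card G).primeFactors.card ≤ ({2, p0} : Finset ℕ).card := Finset.card_le_card hsub
      _ ≤ 2 := Finset.card_le_two
  · have hsub : (Nat.card G).primeFactors ⊆ {2} := by
      intro q hq
      have hqp := Nat.prime_of_mem_primeFactors hq
      have hqd := Nat.dvd_of_mem_primeFactors hq
      by_contra hq2
      rw [Finset.mem_singleton] at hq2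
      exact hex ⟨q, hqp, hq2, hqd⟩
    calc (Nat.card G).primeFactors.card ≤ ({2} : Finset ℕ).card := Finset.card_le_card hsub
      _ ≤ 2 := by simp

theorem solvable_of_index_two (K : Subgroup G) [K.Normal] (hK : K.index = 2) [Group.IsSolvable K] :
    Group.IsSolvable G := by
  have hcard : Nat.card (G ⧸ K) = 2 := hK
  have : Fact (Nat.Prime 2) := ⟨Nat.prime_two⟩
  have : IsCyclic (G ⧸ K) := isCyclic_of_prime_card hcard
  have : Group.IsSolvable (G ⧸ K) := by
    refine Group.isSolvable_of_comm (fun a b => ?_)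
    obtain ⟨g, hg⟩ := IsCyclic.exists_generator (α := G ⧸ K)
    obtain ⟨i, rfl⟩ := Subgroup.mem_zpowers_iff.1 (hg a)
    obtain ⟨j, rfl⟩ := Subgroup.mem_zpowers_iff.1 (hg b)
    rw [← zpow_add, ← zpow_add, add_comm]
  refine Group.isSolvable_of_ker_le_range K.subtype (QuotientGroup.mk' K) ?_
  rw [QuotientGroup.ker_mk', Subgroup.range_subtype]

end Cfsg.Agent.Lead.SOT
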