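import Mathlib
import Cfsg.Agent.Lib.SOT.SOTDefs
import Cfsg.Agent.Lib.SOT.SOTDiv

/-!
# Explicit divisor sums for `4*p` and `4*(p*q)` (piece SOT-DIV4, row S3996; done by helper15)
RECIPE: coprime splitting `sum_divisors_mul_coprime` (SOTDefs) with `4 * p` (`Nat.Coprime 4 p`
for an odd prime), `sum_div_four`, `Nat.Prime.sum_divisors`; for `4 * (p*q)` split as
`4 * (p*q)` with `Nat.Coprime 4 (p*q)` and `sum_div_pq` (applied to `fun d => s (d₁ * d)`), then
reorder with `ring_nf`/`omega`-style `Nat` arithmetic (`Nat.add_comm` chains; `mul_one`,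
`one_mul`).  Keep the statements verbatim (the forms `2 * p`, `4 * p`, `2 * (p * q)`,
`4 * (p * q)` are used downstream).  Aux names: prefix `sotdiv4_`.
-/

set_option autoImplicit false

namespace Cfsg.Agent.Lead.SOT

theorem sotdiv4_coprime {p : ℕ} (hp : p.Prime) (hp2 : p ≠ 2) : Nat.Coprime 4 p := by
  have h2 : Nat.Coprime 2 p := (Nat.coprime_primes Nat.prime_two hp).2 (Ne.symm hp2)
  have h4 : Nat.Coprime (2 ^ 2) p := Nat.Coprime.pow_left 2 h2
  exact h4

theorem sum_div_4p (s : ℕ → ℕ) {p : ℕ} (hp : p.Prime) (hp2 : p ≠ 2) :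
    ∑ d ∈ (4 * p).divisors, s d = s 1 + s 2 + s 4 + s p + s (2 * p) + s (4 * p) := by
  rw [sum_divisors_mul_coprime s (sotdiv4_coprime hp hp2),
    sum_div_four (fun d₁ => ∑ d₂ ∈ p.divisors, s (d₁ * d₂))]
  simp only [Nat.Prime.sum_divisors hp, one_mul, mul_one]
  ring

theorem sum_div_4pq (s : ℕ → ℕ) {p q : ℕ} (hp : p.Prime) (hq : q.Prime) (hp2 : p ≠ 2)
    (hq2 : q ≠ 2) (hpq : p ≠ q) :
    ∑ d ∈ (4 * (p * q)).divisors, s d
      = s 1 + s 2 + s 4 + s p + s (2 * p) + s (4 * p) + s q + s (2 * q) + s (4 * q)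
        + s (p * q) + s (2 * (p * q)) + s (4 * (p * q)) := by
  have hc : Nat.Coprime 4 (p * q) :=
    Nat.Coprime.mul_right (sotdiv4_coprime hp hp2) (sotdiv4_coprime hq hq2)
  rw [sum_divisors_mul_coprime s hc,
    sum_div_four (fun d₁ => ∑ d₂ ∈ (p * q).divisors, s (d₁ * d₂))]
  rw [sum_div_pq (fun d => s (1 * d)) hp hq hpq, sum_div_pq (fun d => s (2 * d)) hp hq hpq,
    sum_div_pq (fun d => s (4 * d)) hp hq hpq]
  simp only [one_mul, mul_one]
  ring

end Cfsg.Agent.Lead.SOT
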