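import Mathlib
import Cfsg.Agent.Lib.SOT.SOTDefs
import Cfsg.Agent.Lib.SOT.SOTDiv
import Cfsg.Agent.Lib.SOT.SOTDiv4
import Cfsg.Agent.Lib.SOT.SOTO1

/-!
# Even case `4 ∣ N`, unique involution: first steps (piece SOT-EV4A, row S3996)
Standing hypotheses: `h4 : 4 ∣ N`, `h2 : s 2 = 1`, `hdbl : ∀ k, Odd k → s (2 * k) = s k`.
PROOF of `s4_mod`: Frobenius at 4 (`sum_div_four`): `4 ∣ 1 + 1 + s 4`.
PROOF of `s4_val`: `s 4 ≠ 0` by `s4_mod`, then `h.vals 4`.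
PROOF of `ev4_i`: `4 * p ∣ N` (coprime).  Frobenius at `4*p` (`sum_div_4p`, `hdbl p`):
`4*p ∣ 1 + 1 + m + m + m + s (4*p)`.  Mod `p` (`p ∣ m + 1`): `s (4*p) ≡ 1`, so `s (4*p) = n`,
`n % p = 1` (`0` and `m ≡ -1` impossible).  Mod 4 (`m % 4 = 2`): `2 + 3m + n ≡ n`, so `n % 4 = 0`.
Aux names: prefix `sotev4a_`.
-/

set_option autoImplicit false

namespace Cfsg.Agent.Lead.SOT

theorem FD.s4_mod {N : ℕ} {s : ℕ → ℕ} {m n : ℕ} (h : FD N s m n) (h4 : 4 ∣ N) (h2 : s 2 = 1) :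
    s 4 % 4 = 2 := by
  have h1 := h.frob 4 h4
  rw [sum_div_four, h.one, h2] at h1
  omega

theorem FD.s4_val {N : ℕ} {s : ℕ → ℕ} {m n : ℕ} (h : FD N s m n) (h4 : 4 ∣ N) (h2 : s 2 = 1) :
    s 4 = m ∨ s 4 = n := by
  have h1 := h.s4_mod h4 h2
  rcases h.vals 4 (by norm_num) with h0 | h0
  · rw [h0] at h1
    omega
  · exact h0

theorem FD.ev4_i {N : ℕ} {s : ℕ → ℕ} {m n : ℕ} (h : FD N s m n) (h4 : 4 ∣ N) (h2 : s 2 = 1)
    (hdbl : ∀ k, Odd k → s (2 * k) = s k) (hs4 : s 4 = m) {p : ℕ} (hp : p.Prime) (hp2 : p ≠ 2)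
    (hpN : p ∣ N) (hsp : s p = m) : s (4 * p) = n ∧ n % p = 1 ∧ n % 4 = 0 := by
  have hp3 : 3 ≤ p := by
    have h1 := hp.two_le
    omega
  have hodd : Odd p := hp.odd_of_ne_two hp2
  have hcop : Nat.Coprime 4 p := by
    have h1 : Nat.Coprime (2 ^ 2) p :=
      Nat.Coprime.pow_left 2 ((Nat.coprime_primes Nat.prime_two hp).mpr (Ne.symm hp2))
    norm_num at h1
    exact h1
  have h4pN : 4 * p ∣ N := Nat.Coprime.mul_dvd_of_dvd_of_dvd hcop h4 hpN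
  have hF := h.frob (4 * p) h4pN
  rw [sum_div_4p s hp hp2, h.one, h2, hs4, hsp, hdbl p hodd, hsp] at hF
  have hm4 : m % 4 = 2 := by
    have h1 := h.s4_mod h4 h2
    rw [hs4] at h1
    exact h1
  have hpm : p ∣ 1 + m := by
    have h1 := h.prime_dvd hp hpN
    rw [hsp] at h1
    exact h1
  have hpF : p ∣ 1 + 1 + m + m + m + s (4 * p) := dvd_trans (dvd_mul_left p 4) hF
  have h4F : 4 ∣ 1 + 1 + m + m + m + s (4 * p) := dvd_trans (dvd_mul_right 4 p) hF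
  have hz : (p : ℤ) ∣ (s (4 * p) : ℤ) - 1 := by
    have h1 : (p : ℤ) ∣ ((1 + 1 + m + m + m + s (4 * p) : ℕ) : ℤ) := Int.natCast_dvd_natCast.mpr hpF
    have h2' : (p : ℤ) ∣ ((1 + m : ℕ) : ℤ) := Int.natCast_dvd_natCast.mpr hpm
    have h3 : (s (4 * p) : ℤ) - 1 =
        ((1 + 1 + m + m + m + s (4 * p) : ℕ) : ℤ) - 3 * ((1 + m : ℕ) : ℤ) := by
      push_cast
      ring
    rw [h3]
    exact dvd_sub h1 (dvd_mul_of_dvd_right h2' 3)
  have hcase : s (4 * p) = n := by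
    rcases h.vals (4 * p) (by omega) with h0 | h0 | h0
    · exfalso
      rw [h0] at hz
      have h1 : (p : ℤ) ∣ 1 := by
        have h5 : (p : ℤ) ∣ -(((0 : ℕ) : ℤ) - 1) := (dvd_neg).mpr hz
        simpa using h5
      have h6 : p ∣ 1 := by exact_mod_cast h1
      have h7 := Nat.le_of_dvd (by norm_num) h6
      omega
    · exfalso
      rw [h0] at hz
      have h2' : (p : ℤ) ∣ ((1 + m : ℕ) : ℤ) := Int.natCast_dvd_natCast.mpr hpm
      have h1 : (p : ℤ) ∣ 2 := by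
        have h5 : (2 : ℤ) = ((1 + m : ℕ) : ℤ) - ((m : ℤ) - 1) := by
          push_cast
          ring
        rw [h5]
        exact dvd_sub h2' hz
      have h6 : p ∣ 2 := by exact_mod_cast h1
      have h7 := Nat.le_of_dvd (by norm_num) h6
      omega
    · exact h0
  refine ⟨hcase, ?_, ?_⟩
  · rw [hcase] at hz
    have h1 : 1 ≡ n [MOD p] := (Nat.modEq_iff_dvd).mpr (by simpa using hz)
    have h2' : 1 % p = n % p := h1
    rw [Nat.mod_eq_of_lt (by omega : 1 < p)] at h2'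
    exact h2'.symm
  · rw [hcase] at h4F
    omega

end Cfsg.Agent.Lead.SOT
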