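import Mathlib
import Cfsg.Agent.Lib.SOT.SOTDefs
import Cfsg.Agent.Lib.SOT.SOTDiv
import Cfsg.Agent.Lib.SOT.SOTDiv4
import Cfsg.Agent.Lib.SOT.SOTO1
import Cfsg.Agent.Lib.SOT.SOTEv4a

/-!
# Even case `4 ∣ N`: two odd primes in the class of `s 4` (piece SOT-EV4B, row S3996)
PROOF of `ev4_I` (`s 4 = m`, `s p = s q = m`).  `FD.same_class`: `s (p*q) = n`, `n ≡ 1`,
`m ≡ -1 (mod p, q)`.  `FD.ev4_i` for `p` and `q`: `s (4*p) = s (4*q) = n`, `n % 4 = 0`;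
`FD.s4_mod`: `m % 4 = 2`.  `hdbl`: `s (2*p) = s (2*q) = m`, `s (2*(p*q)) = n`.
Frobenius at `4*(p*q)` (`sum_div_4pq`; `4*(p*q) ∣ N` by coprimality):
`4*(p*q) ∣ 1+1+m+m+m+n+m+m+n+n+n+s(4*(p*q)) = 2 + 5m + 4n + s (4*(p*q))`.
Mod `p`: `2 - 5 + 4 = 1`, so `s (4*(p*q)) ≡ -1 (mod p)`, hence `= m` (`0`, `n ≡ 1` impossible).
Mod 4: `2 + 6m + 4n ≡ 2 (mod 4)` since `m % 4 = 2`: contradiction with `4 ∣ ...`.
Aux names: prefix `sotev4b_`.
-/

set_option autoImplicit false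

namespace Cfsg.Agent.Lead.SOT

theorem FD.ev4_I {N : ℕ} {s : ℕ → ℕ} {m n : ℕ} (h : FD N s m n) (h4 : 4 ∣ N) (h2 : s 2 = 1)
    (hdbl : ∀ k, Odd k → s (2 * k) = s k) (hs4 : s 4 = m) {p q : ℕ} (hp : p.Prime)
    (hq : q.Prime) (hp2 : p ≠ 2) (hq2 : q ≠ 2) (hpq : p ≠ q) (hpN : p ∣ N) (hqN : q ∣ N)
    (hsp : s p = m) (hsq : s q = m) : False := by
  obtain ⟨hspq, hnp, _hnq, hpm, _hqm, _hmn⟩ := h.same_class hp hq hp2 hq2 hpq hpN hqN hsp hsq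
  obtain ⟨hs4p, _, hn4⟩ := h.ev4_i h4 h2 hdbl hs4 hp hp2 hpN hsp
  obtain ⟨hs4q, _, _⟩ := h.ev4_i h4 h2 hdbl hs4 hq hq2 hqN hsq
  have hm4 : m % 4 = 2 := by
    have := h.s4_mod h4 h2
    rwa [hs4] at this
  have hoddp : Odd p := hp.odd_of_ne_two hp2
  have hoddq : Odd q := hq.odd_of_ne_two hq2
  have hoddpq : Odd (p * q) := hoddp.mul hoddq
  have hs2p : s (2 * p) = m := by rw [hdbl p hoddp, hsp]
  have hs2q : s (2 * q) = m := by rw [hdbl q hoddq, hsq]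
  have hs2pq : s (2 * (p * q)) = n := by rw [hdbl (p * q) hoddpq, hspq]
  -- `4 * (p * q) ∣ N`
  have hcpq : Nat.Coprime p q := (Nat.coprime_primes hp hq).2 hpq
  have hpqN : p * q ∣ N := Nat.Coprime.mul_dvd_of_dvd_of_dvd hcpq hpN hqN
  have hc4 : Nat.Coprime 4 (p * q) :=
    Nat.Coprime.mul_right (sotdiv4_coprime hp hp2) (sotdiv4_coprime hq hq2)
  have h4pqN : 4 * (p * q) ∣ N := Nat.Coprime.mul_dvd_of_dvd_of_dvd hc4 h4 hpqN
  have hfrob := h.frob (4 * (p * q)) h4pqN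
  rw [sum_div_4pq s hp hq hp2 hq2 hpq, h.one, h2, hs4, hsp, hs2p, hs4p, hsq, hs2q, hs4q, hspq,
    hs2pq] at hfrob
  -- the value at `4 * (p * q)`
  have hpos : 0 < p * q := Nat.mul_pos hp.pos hq.pos
  have h3 : 3 ≤ 4 * (p * q) := by omega
  have hpd : p ∣ 1 + 1 + m + m + m + n + m + m + n + n + n + s (4 * (p * q)) :=
    (Dvd.intro (4 * q) (by ring) : p ∣ 4 * (p * q)).trans hfrob
  have h4d : 4 ∣ 1 + 1 + m + m + m + n + m + m + n + n + n + s (4 * (p * q)) :=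
    Dvd.dvd.trans (Dvd.intro (p * q) rfl) hfrob
  -- `p ∣ 1 + X`
  obtain ⟨a, ha⟩ := hpm
  have hb : n = p * (n / p) + 1 := by
    have := Nat.div_add_mod n p
    omega
  have hp1X : p ∣ 1 + s (4 * (p * q)) := by
    have hsplit : 1 + 1 + m + m + m + n + m + m + n + n + n + s (4 * (p * q))
        = (1 + s (4 * (p * q))) + (5 * (m + 1) + 4 * (p * (n / p))) := by
      omega
    rw [hsplit] at hpd
    have hp2' : p ∣ 5 * (m + 1) + 4 * (p * (n / p)) := by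
      rw [ha]
      exact Dvd.intro (5 * a + 4 * (n / p)) (by ring)
    exact (Nat.dvd_add_left hp2').1 hpd
  rcases h.vals (4 * (p * q)) h3 with h0 | h0 | h0
  · rw [h0] at hp1X
    have := Nat.le_of_dvd (by norm_num) hp1X
    have := hp.two_le
    omega
  · rw [h0] at h4d
    omega
  · rw [h0] at hp1X
    have hp22 : p ∣ 2 := by
      have hsplit : 1 + n = 2 + p * (n / p) := by omega
      rw [hsplit] at hp1X
      exact (Nat.dvd_add_left (Dvd.intro _ rfl)).1 hp1X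
    have := Nat.le_of_dvd (by norm_num) hp22
    have := hp.two_le
    omega

end Cfsg.Agent.Lead.SOT
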