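import Mathlib
import Cfsg.Agent.Lib.SOT.SOTDefs
import Cfsg.Agent.Lib.SOT.SOTDiv
import Cfsg.Agent.Lib.SOT.SOTDiv4
import Cfsg.Agent.Lib.SOT.SOTO1
import Cfsg.Agent.Lib.SOT.SOTEv4a

/-!
# Even case `4 ∣ N`: two odd primes in the class other than that of `s 4` (piece SOT-EV4C)
PROOF of `ev4_II` (`s 4 = m`, `s p = s q = n`).  `FD.same_class` for `h.symm`: `s (p*q) = m`,
`m ≡ 1`, `n ≡ -1 (mod p, q)`.  `m % 4 = 2` (`FD.s4_mod`).
Frobenius at `4*p` (`sum_div_4p`, `hdbl p`): `4*p ∣ 1+1+m+n+n+s(4*p)`.  Mod `p`: `2+1-2 = 1`, so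
`s (4*p) ≡ -1`, hence `s (4*p) = n` (`0`, `m ≡ 1` impossible).  Mod 4: `2 + 2 + 3n ≡ 3n`, so
`n % 4 = 0`.  Same for `q`: `s (4*q) = n`.
Frobenius at `4*(p*q)` (`sum_div_4pq`, `hdbl`): values `1,1,m | n,n,n | n,n,n | m,m,s(4pq)`:
`4*(p*q) ∣ 2 + 3m + 6n + s (4*(p*q))`.  Mod `p`: `2+3-6 = -1`, so `s (4*(p*q)) ≡ 1`, hence `= m`
(`0`, `n ≡ -1` impossible).  Mod 4: `2 + 4m + 6n ≡ 2` (as `n % 4 = 0`): contradiction.
Aux names: prefix `sotev4c_`.
-/

set_option autoImplicit false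

namespace Cfsg.Agent.Lead.SOT

theorem sotev4c_two_ne {p : ℕ} (hp : p.Prime) (hp2 : p ≠ 2) : (2 : ZMod p) ≠ 0 := by
  intro h0
  have h1 : ((2 : ℕ) : ZMod p) = 0 := by exact_mod_cast h0
  rw [ZMod.natCast_eq_zero_iff] at h1
  have h3 := Nat.le_of_dvd (by norm_num) h1
  have h4 := hp.two_le
  omega

theorem sotev4c_step {N : ℕ} {s : ℕ → ℕ} {m n : ℕ} (h : FD N s m n) (h4 : 4 ∣ N) (h2 : s 2 = 1)
    (hdbl : ∀ k, Odd k → s (2 * k) = s k) (hs4 : s 4 = m) (hm4 : m % 4 = 2) {p : ℕ}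
    (hp : p.Prime) (hp2 : p ≠ 2) (hpN : p ∣ N) (hsp : s p = n) (hmp : m % p = 1)
    (hpn : p ∣ n + 1) : s (4 * p) = n ∧ n % 4 = 0 := by
  have := Fact.mk hp
  have hc : Nat.Coprime 4 p := sotdiv4_coprime hp hp2
  have h4p : 4 * p ∣ N := Nat.Coprime.mul_dvd_of_dvd_of_dvd hc h4 hpN
  have hf := h.frob (4 * p) h4p
  rw [sum_div_4p s hp hp2, h.one, h2, hs4, hsp, hdbl p (hp.odd_of_ne_two hp2), hsp] at hf
  have hpd : p ∣ 1 + 1 + m + n + n + s (4 * p) := (Dvd.intro_left 4 rfl).trans hf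
  have h4d : 4 ∣ 1 + 1 + m + n + n + s (4 * p) := (Dvd.intro p rfl).trans hf
  have hmz : (m : ZMod p) = 1 := by
    have h0 := ZMod.natCast_mod m p
    rw [hmp] at h0
    rw [← h0]
    simp
  have hnz : (n : ZMod p) = -1 := by
    have h0 := (ZMod.natCast_eq_zero_iff (n + 1) p).2 hpn
    push_cast at h0
    exact eq_neg_of_add_eq_zero_left h0
  have hxz : (s (4 * p) : ZMod p) = -1 := by
    have h0 := (ZMod.natCast_eq_zero_iff _ p).2 hpd
    push_cast at h0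
    rw [hmz, hnz] at h0
    linear_combination h0
  have h1 : (1 : ZMod p) ≠ 0 := one_ne_zero
  have h2' : (2 : ZMod p) ≠ 0 := sotev4c_two_ne hp hp2
  have hx : s (4 * p) = n := by
    rcases h.vals (4 * p) (by have := hp.two_le; omega) with h0 | h0 | h0
    · exfalso
      rw [h0] at hxz
      apply h1
      have h5 : (0 : ZMod p) = -1 := by simpa using hxz
      linear_combination h5
    · exfalso
      rw [h0, hmz] at hxz
      apply h2'
      linear_combination hxz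
    · exact h0
  refine ⟨hx, ?_⟩
  rw [hx] at h4d
  omega

theorem FD.ev4_II {N : ℕ} {s : ℕ → ℕ} {m n : ℕ} (h : FD N s m n) (h4 : 4 ∣ N) (h2 : s 2 = 1)
    (hdbl : ∀ k, Odd k → s (2 * k) = s k) (hs4 : s 4 = m) {p q : ℕ} (hp : p.Prime)
    (hq : q.Prime) (hp2 : p ≠ 2) (hq2 : q ≠ 2) (hpq : p ≠ q) (hpN : p ∣ N) (hqN : q ∣ N)
    (hsp : s p = n) (hsq : s q = n) : False := by
  have := Fact.mk hp
  obtain ⟨hspq, hmp, hmq, hpn, hqn, hnm⟩ := h.symm.same_class hp hq hp2 hq2 hpq hpN hqN hsp hsq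
  have hm4 : m % 4 = 2 := by
    have := h.s4_mod h4 h2
    rwa [hs4] at this
  obtain ⟨hs4p, hn4⟩ := sotev4c_step h h4 h2 hdbl hs4 hm4 hp hp2 hpN hsp hmp hpn
  obtain ⟨hs4q, -⟩ := sotev4c_step h h4 h2 hdbl hs4 hm4 hq hq2 hqN hsq hmq hqn
  have hpodd : Odd p := hp.odd_of_ne_two hp2
  have hqodd : Odd q := hq.odd_of_ne_two hq2
  have hcpq : Nat.Coprime p q := (Nat.coprime_primes hp hq).2 hpq
  have hpqN : p * q ∣ N := Nat.Coprime.mul_dvd_of_dvd_of_dvd hcpq hpN hqN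
  have hc4 : Nat.Coprime 4 (p * q) :=
    Nat.Coprime.mul_right (sotdiv4_coprime hp hp2) (sotdiv4_coprime hq hq2)
  have h4pq : 4 * (p * q) ∣ N := Nat.Coprime.mul_dvd_of_dvd_of_dvd hc4 h4 hpqN
  have hf := h.frob (4 * (p * q)) h4pq
  rw [sum_div_4pq s hp hq hp2 hq2 hpq, h.one, h2, hs4, hsp, hdbl p hpodd, hsp, hs4p, hsq,
    hdbl q hqodd, hsq, hs4q, hspq, hdbl (p * q) (hpodd.mul hqodd), hspq] at hf
  have hpd : p ∣ 1 + 1 + m + n + n + n + n + n + n + m + m + s (4 * (p * q)) :=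
    (Dvd.intro_left (4 * q) (by ring)).trans hf
  have h4d : 4 ∣ 1 + 1 + m + n + n + n + n + n + n + m + m + s (4 * (p * q)) :=
    (Dvd.intro (p * q) rfl).trans hf
  have hmz : (m : ZMod p) = 1 := by
    have h0 := ZMod.natCast_mod m p
    rw [hmp] at h0
    rw [← h0]
    simp
  have hnz : (n : ZMod p) = -1 := by
    have h0 := (ZMod.natCast_eq_zero_iff (n + 1) p).2 hpn
    push_cast at h0
    exact eq_neg_of_add_eq_zero_left h0
  have hyz : (s (4 * (p * q)) : ZMod p) = 1 := by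
    have h0 := (ZMod.natCast_eq_zero_iff _ p).2 hpd
    push_cast at h0
    rw [hmz, hnz] at h0
    linear_combination h0
  have h1 : (1 : ZMod p) ≠ 0 := one_ne_zero
  have h2' : (2 : ZMod p) ≠ 0 := sotev4c_two_ne hp hp2
  have h3pq : 3 ≤ 4 * (p * q) := by
    have := hp.two_le
    have := hq.two_le
    nlinarith
  have hy : s (4 * (p * q)) = m := by
    rcases h.vals (4 * (p * q)) h3pq with h0 | h0 | h0
    · exact h0 ▸ (by
        exfalso
        rw [h0] at hyz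
        apply h1
        have h5 : (0 : ZMod p) = 1 := by simpa using hyz
        linear_combination -h5)
    · exact h0
    · exfalso
      rw [h0, hnz] at hyz
      apply h2'
      linear_combination -hyz
  rw [hy] at h4d
  omega

end Cfsg.Agent.Lead.SOT
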