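import Mathlib
import Cfsg.Agent.Lib.SOT.SOTDefs
import Cfsg.Agent.Lib.SOT.SOTDiv
import Cfsg.Agent.Lib.SOT.SOTDiv4
import Cfsg.Agent.Lib.SOT.SOTO1
import Cfsg.Agent.Lib.SOT.SOTEv4a

/-!
# Even case `4 ∣ N`: two odd primes in different classes (piece SOT-EV4D, row S3996)
PROOF of `ev4_III` (`s 4 = m`, `s p = m`, `s q = n`).  `m % 4 = 2`; `p ∣ m + 1`; `q ∣ n + 1`.
`FD.ev4_i` for `p`: `s (4*p) = n`, `n % p = 1`, `n % 4 = 0`.
Frobenius at `p*q` (`sum_div_pq`): `p*q ∣ 1 + m + n + s (p*q)`.  Mod `p`: `1-1+1 = 1`, so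
`s (p*q) ≡ -1 (mod p)`, hence `s (p*q) = m` (`0`, `n ≡ 1` impossible).  Mod `q`:
`1 + m + n + m ≡ 2m`, so `q ∣ m`.
Frobenius at `4*q` (`sum_div_4p`, `hdbl q`): `4*q ∣ 1+1+m+n+n+s(4*q)`.  Mod `q`: `2+0-2 = 0`, so
`q ∣ s (4*q)`, hence `s (4*q) ≠ n`.  Mod 4: `2+2+0+s(4*q)`, so `4 ∣ s (4*q)`, hence
`s (4*q) ≠ m`.  So `s (4*q) = 0`, and `s (4*(p*q)) = 0` by `h.down` (`4*q ∣ 4*(p*q)`).
Frobenius at `4*(p*q)` (`sum_div_4pq`, `hdbl`): values `1,1,m | m,m,n | n,n,0 | m,m,0`: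
`q ∣ 2 + 5m + 3n ≡ 2 - 3 = -1 (mod q)`: contradiction.
Aux names: prefix `sotev4d_`.
-/

set_option autoImplicit false

namespace Cfsg.Agent.Lead.SOT

theorem sotev4d_cop4 {q : ℕ} (hq : q.Prime) (hq2 : q ≠ 2) : Nat.Coprime 4 q := by
  have h1 : Nat.Coprime 2 q := (Nat.coprime_primes Nat.prime_two hq).2 (Ne.symm hq2)
  have h2 : Nat.Coprime (2 ^ 2) q := Nat.Coprime.pow_left 2 h1
  exact h2

theorem sotev4d_dvd_of_two_mul {q x : ℕ} (hq : q.Prime) (hq2 : q ≠ 2) (h : q ∣ 2 * x) : q ∣ x := by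
  rcases (Nat.Prime.dvd_mul hq).1 h with h2 | h2
  · exfalso
    have h3 := Nat.le_of_dvd (by norm_num) h2
    have h4 := hq.two_le
    omega
  · exact h2

theorem sotev4d_not_dvd_one {q : ℕ} (hq : q.Prime) (h : q ∣ 1) : False := by
  have h3 := Nat.le_of_dvd (by norm_num) h
  have h4 := hq.two_le
  omega

theorem FD.ev4_III {N : ℕ} {s : ℕ → ℕ} {m n : ℕ} (h : FD N s m n) (h4 : 4 ∣ N) (h2 : s 2 = 1)
    (hdbl : ∀ k, Odd k → s (2 * k) = s k) (hs4 : s 4 = m) {p q : ℕ} (hp : p.Prime)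
    (hq : q.Prime) (hp2 : p ≠ 2) (hq2 : q ≠ 2) (hpq : p ≠ q) (hpN : p ∣ N) (hqN : q ∣ N)
    (hsp : s p = m) (hsq : s q = n) : False := by
  have hm4 : m % 4 = 2 := by
    have h1 := h.s4_mod h4 h2
    rwa [hs4] at h1
  have hpm : p ∣ m + 1 := by
    have h1 := h.prime_dvd hp hpN
    rwa [hsp, add_comm] at h1
  have hqn : q ∣ n + 1 := by
    have h1 := h.prime_dvd hq hqN
    rwa [hsq, add_comm] at h1
  obtain ⟨h4p, hnp, hn4⟩ := h.ev4_i h4 h2 hdbl hs4 hp hp2 hpN hsp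
  have hp3 : 3 ≤ p := by
    have h1 := hp.two_le
    omega
  have hq3 : 3 ≤ q := by
    have h1 := hq.two_le
    omega
  have hpodd : Odd p := hp.odd_of_ne_two hp2
  have hqodd : Odd q := hq.odd_of_ne_two hq2
  have hcop : p.Coprime q := (Nat.coprime_primes hp hq).2 hpq
  have hpqN : p * q ∣ N := Nat.Coprime.mul_dvd_of_dvd_of_dvd hcop hpN hqN
  -- Frobenius at `p * q`
  have hF1 := h.frob (p * q) hpqN
  rw [sum_div_pq s hp hq hpq, h.one, hsp, hsq] at hF1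
  have hpq3 : 3 ≤ p * q := by nlinarith
  have hF1p : p ∣ 1 + m + n + s (p * q) := (dvd_mul_right p q).trans hF1
  have hF1q : q ∣ 1 + m + n + s (p * q) := (dvd_mul_left q p).trans hF1
  have hspq : s (p * q) = m := by
    have h5 : p ∣ n + s (p * q) := by
      have e : 1 + m + n + s (p * q) = (m + 1) + (n + s (p * q)) := by ring
      rw [e] at hF1p
      exact (Nat.dvd_add_right hpm).1 hF1p
    rcases h.vals (p * q) hpq3 with h0 | h1 | h1
    · exfalso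
      rw [h0, add_zero] at h5
      have h6 := Nat.mod_eq_zero_of_dvd h5
      omega
    · exact h1
    · exfalso
      rw [h1] at h5
      have h6 : p ∣ n := sotev4d_dvd_of_two_mul hp hp2 (by rw [two_mul]; exact h5)
      have h7 := Nat.mod_eq_zero_of_dvd h6
      omega
  rw [hspq] at hF1q
  have hqm : q ∣ m := by
    have e : 1 + m + n + m = (n + 1) + 2 * m := by ring
    rw [e] at hF1q
    exact sotev4d_dvd_of_two_mul hq hq2 ((Nat.dvd_add_right hqn).1 hF1q)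
  -- Frobenius at `4 * q`
  have h4qN : 4 * q ∣ N := Nat.Coprime.mul_dvd_of_dvd_of_dvd (sotev4d_cop4 hq hq2) h4 hqN
  have hF2 := h.frob (4 * q) h4qN
  rw [sum_div_4p s hq hq2, h.one, h2, hs4, hsq, hdbl q hqodd, hsq] at hF2
  have hs4q : s (4 * q) = 0 := by
    have hF2q : q ∣ 1 + 1 + m + n + n + s (4 * q) := (dvd_mul_left q 4).trans hF2
    have hF24 : 4 ∣ 1 + 1 + m + n + n + s (4 * q) := (dvd_mul_right 4 q).trans hF2
    have h7 : q ∣ s (4 * q) := by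
      have e : 1 + 1 + m + n + n + s (4 * q) = (m + 2 * (n + 1)) + s (4 * q) := by ring
      rw [e] at hF2q
      exact (Nat.dvd_add_right (dvd_add hqm (dvd_mul_of_dvd_right hqn 2))).1 hF2q
    rcases h.vals (4 * q) (by omega) with h0 | h1 | h1
    · exact h0
    · exfalso
      rw [h1] at hF24
      omega
    · exfalso
      rw [h1] at h7
      exact sotev4d_not_dvd_one hq ((Nat.dvd_add_right h7).1 hqn)
  have hs4pq : s (4 * (p * q)) = 0 := by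
    by_contra hne
    exact h.down (4 * q) (4 * (p * q)) ⟨p, by ring⟩ hne hs4q
  -- Frobenius at `4 * (p * q)`
  have h4pqN : 4 * (p * q) ∣ N :=
    Nat.Coprime.mul_dvd_of_dvd_of_dvd
      (Nat.Coprime.mul_right (sotev4d_cop4 hp hp2) (sotev4d_cop4 hq hq2)) h4 hpqN
  have hF3 := h.frob (4 * (p * q)) h4pqN
  rw [sum_div_4pq s hp hq hp2 hq2 hpq, h.one, h2, hs4, hsp, hdbl p hpodd, hsp, h4p, hsq,
    hdbl q hqodd, hsq, hs4q, hspq, hdbl (p * q) (hpodd.mul hqodd), hspq, hs4pq] at hF3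
  have hF3q : q ∣ 1 + 1 + m + m + m + n + n + n + 0 + m + m + 0 :=
    (Dvd.intro_left (4 * p) (by ring)).trans hF3
  have e : 1 + 1 + m + m + m + n + n + n + 0 + m + m + 0 + 1 = 5 * m + 3 * (n + 1) := by ring
  have h9 : q ∣ 1 + 1 + m + m + m + n + n + n + 0 + m + m + 0 + 1 := by
    rw [e]
    exact dvd_add (dvd_mul_of_dvd_right hqm 5) (dvd_mul_of_dvd_right hqn 3)
  exact sotev4d_not_dvd_one hq ((Nat.dvd_add_right hF3q).1 h9)

end Cfsg.Agent.Lead.SOT
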