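import Mathlib
import Cfsg.Agent.Lib.SOT.SOTDefs
import Cfsg.Agent.Lib.SOT.SOTEv4a
import Cfsg.Agent.Lib.SOT.SOTEv4b
import Cfsg.Agent.Lib.SOT.SOTEv4c
import Cfsg.Agent.Lib.SOT.SOTEv4d

/-!
# Even case `4 ∣ N`, unique involution: at most one odd prime (piece SOT-EV4, row S3996)
PROOF. `FD.s4_val`: `s 4 = m ∨ s 4 = n`; in the second case pass to `h.symm`, so WLOG
`s 4 = m`.  `FD.prime_val` for `p` and `q`: four cases; (m,m): `ev4_I`; (n,n): `ev4_II`;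
(m,n): `ev4_III`; (n,m): `ev4_III` with `p, q` swapped.  Aux names: prefix `sotev4_`.
-/

set_option autoImplicit false

namespace Cfsg.Agent.Lead.SOT

theorem FD.ev4_main {N : ℕ} {s : ℕ → ℕ} {m n : ℕ} (h : FD N s m n) (h4 : 4 ∣ N) (h2 : s 2 = 1)
    (hdbl : ∀ k, Odd k → s (2 * k) = s k) {p q : ℕ} (hp : p.Prime) (hq : q.Prime)
    (hp2 : p ≠ 2) (hq2 : q ≠ 2) (hpq : p ≠ q) (hpN : p ∣ N) (hqN : q ∣ N) : False := by
  rcases h.s4_val h4 h2 with hs4 | hs4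
  · rcases h.prime_val hp hp2 hpN with hsp | hsp <;> rcases h.prime_val hq hq2 hqN with hsq | hsq
    · exact h.ev4_I h4 h2 hdbl hs4 hp hq hp2 hq2 hpq hpN hqN hsp hsq
    · exact h.ev4_III h4 h2 hdbl hs4 hp hq hp2 hq2 hpq hpN hqN hsp hsq
    · exact h.ev4_III h4 h2 hdbl hs4 hq hp hq2 hp2 (Ne.symm hpq) hqN hpN hsq hsp
    · exact h.ev4_II h4 h2 hdbl hs4 hp hq hp2 hq2 hpq hpN hqN hsp hsq
  · have h' := h.symm
    rcases h.prime_val hp hp2 hpN with hsp | hsp <;> rcases h.prime_val hq hq2 hqN with hsq | hsq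
    · exact h'.ev4_II h4 h2 hdbl hs4 hp hq hp2 hq2 hpq hpN hqN hsp hsq
    · exact h'.ev4_III h4 h2 hdbl hs4 hq hp hq2 hp2 (Ne.symm hpq) hqN hpN hsq hsp
    · exact h'.ev4_III h4 h2 hdbl hs4 hp hq hp2 hq2 hpq hpN hqN hsp hsq
    · exact h'.ev4_I h4 h2 hdbl hs4 hp hq hp2 hq2 hpq hpN hqN hsp hsq

end Cfsg.Agent.Lead.SOT
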