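import Mathlib
import Cfsg.Agent.Lib.Helper20.OrderCount
import Cfsg.Agent.Lib.SOT.SOTDefs

/-!
# Group side, part C: involutions (piece SOT-GRPC, row S3996; helper12)
`odd_ordCnt_two`: Frobenius at 2: `2 ∣ ordCnt G 2 + 1`.
`ordCnt_two_mul`: `ordCnt G 2 = 1` gives a unique involution `z`; it is central (a conjugate of
`z` has order 2).  For odd `k` the map `x ↦ z * x` is a bijection
`{x // orderOf x = k} ≃ {y // orderOf y = 2 * k}`: `orderOf (z * x) = 2 * k` by
`Commute.orderOf_mul_eq_mul_orderOf_of_coprime`; conversely if `orderOf y = 2 * k` then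
`y ^ k` has order 2 so `y ^ k = z`, and `z * y = y ^ (k + 1)` has order `2 k / gcd (2 k) (k + 1) = k`.
-/

set_option autoImplicit false

namespace Cfsg.Agent.Lead.SOT

open Cfsg.Agent.Helper20 (ordCnt)

variable {G : Type*} [Group G] [Finite G]

theorem odd_ordCnt_two (heven : Even (Nat.card G)) : Odd (ordCnt G 2) := by
  have h1 := Cfsg.Agent.Helper20.frobenius_dvd_sum (G := G) 2 (even_iff_two_dvd.1 heven)
  rw [Nat.Prime.sum_divisors Nat.prime_two, Cfsg.Agent.Helper20.ordCnt_one] at h1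
  obtain ⟨c, hc⟩ := h1
  rw [Nat.odd_iff]
  omega

theorem sotgrpc_gcd (k : ℕ) (hk : Odd k) : Nat.gcd (2 * k) (k + 1) = 2 := by
  obtain ⟨j, rfl⟩ := hk
  apply Nat.dvd_antisymm
  · have h1 : Nat.gcd (2 * (2 * j + 1)) (2 * j + 1 + 1) ∣ 2 * (2 * j + 1) := Nat.gcd_dvd_left _ _
    have h2 : Nat.gcd (2 * (2 * j + 1)) (2 * j + 1 + 1) ∣ 2 * (2 * j + 1) + 2 := by
      have h3 : Nat.gcd (2 * (2 * j + 1)) (2 * j + 1 + 1) ∣ 2 * j + 1 + 1 := Nat.gcd_dvd_right _ _
      have h4 : 2 * (2 * j + 1) + 2 = 2 * (2 * j + 1 + 1) := by ring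
      rw [h4]
      exact Dvd.dvd.mul_left h3 2
    exact (Nat.dvd_add_right h1).1 h2
  · apply Nat.dvd_gcd
    · exact dvd_mul_right 2 _
    · exact ⟨j + 1, by ring⟩

theorem ordCnt_two_mul (h2 : ordCnt G 2 = 1) {k : ℕ} (hk : Odd k) :
    ordCnt G (2 * k) = ordCnt G k := by
  have hk0 : k ≠ 0 := by
    rintro rfl
    exact absurd hk (by decide)
  -- the unique involution
  rw [Cfsg.Agent.Helper20.ordCnt_def, Nat.card_eq_one_iff_unique] at h2
  obtain ⟨hsub, ⟨⟨z, hz⟩⟩⟩ := h2
  have huniq : ∀ g : G, orderOf g = 2 → g = z := fun g hg =>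
    congrArg Subtype.val (hsub.elim ⟨g, hg⟩ ⟨z, hz⟩)
  have hzz : z * z = 1 := by
    rw [← pow_two, ← hz, pow_orderOf_eq_one]
  -- it is central
  have hcomm : ∀ x : G, Commute z x := by
    intro x
    have h1 : orderOf (x * z * x⁻¹) = 2 := by
      have := (MulAut.conj x).orderOf_eq z
      rw [MulAut.conj_apply] at this
      rw [this, hz]
    have h3 := huniq _ h1
    show z * x = x * z
    calc z * x = (x * z * x⁻¹) * x := by rw [h3]
      _ = x * z := by group
  -- order `k` to order `2k`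
  have hup : ∀ x : G, orderOf x = k → orderOf (z * x) = 2 * k := by
    intro x hx
    have hco : (orderOf z).Coprime (orderOf x) := by
      rw [hz, hx]
      exact Nat.coprime_two_left.2 hk
    rw [(hcomm x).orderOf_mul_eq_mul_orderOf_of_coprime hco, hz, hx]
  -- order `2k` to order `k`
  have hdown : ∀ y : G, orderOf y = 2 * k → orderOf (z * y) = k := by
    intro y hy
    have h1 : orderOf (y ^ k) = 2 := by
      rw [orderOf_pow' y hk0, hy, Nat.gcd_eq_right (dvd_mul_left k 2)]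
      exact Nat.mul_div_cancel _ (Nat.pos_of_ne_zero hk0)
    have h3 : y ^ k = z := huniq _ h1
    have h4 : z * y = y ^ (k + 1) := by rw [pow_succ, h3]
    rw [h4, orderOf_pow' y (Nat.succ_ne_zero k), hy, sotgrpc_gcd k hk]
    exact Nat.mul_div_cancel_left _ (by norm_num)
  rw [Cfsg.Agent.Helper20.ordCnt_def, Cfsg.Agent.Helper20.ordCnt_def]
  symm
  apply Nat.card_congr
  exact
    { toFun := fun x => ⟨z * x.1, hup x.1 x.2⟩
      invFun := fun y => ⟨z * y.1, hdown y.1 y.2⟩
      left_inv := fun x => Subtype.ext (by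
        show z * (z * x.1) = x.1
        rw [← mul_assoc, hzz, one_mul])
      right_inv := fun y => Subtype.ext (by
        show z * (z * y.1) = y.1
        rw [← mul_assoc, hzz, one_mul]) }

end Cfsg.Agent.Lead.SOT
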