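import Mathlib
import Cfsg.Agent.Lib.Helper20.OrderCount
import Cfsg.Agent.Lib.SOT.SOTDefs

/-!
# Group side, part D: `|G| = 2 * odd` with a unique involution (piece SOT-GRPD, row S3996)
RECIPE.  `ordCnt G 2 = 1`: unique involution `z`, central; `P = zpowers z` has order 2 and, as
`4 ∤ |G|`, is a Sylow 2-subgroup; `P ≤ Z(G)`, so `P.normalizer ≤ centralizer P` and Mathlib's
Burnside transfer theorem (`MonoidHom.ker_transferSylow_isComplement'`, file
Mathlib/GroupTheory/Transfer.lean) gives a normal complement `K` of `P`: `K.index = 2`,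
`|K| = |G| / 2` odd.  (Alternative without transfer: the sign of the regular representation.)
An element `g` of odd order `k` lies in `K` (`g = (g^2)^((k+1)/2)` and `g^2 ∈ K` because
`G ⧸ K` has order 2), so for odd `k`: `{x : K // orderOf x = k} ≃ {g : G // orderOf g = k}`
(`Subgroup.orderOf_coe`).  Aux names: prefix `sotgrpd_`.
-/

set_option autoImplicit false

namespace Cfsg.Agent.Lead.SOT

open Cfsg.Agent.Helper20 (ordCnt)

variable {G : Type*} [Group G] [Finite G]

omit [Finite G] in
theorem sotgrpd_mem_of_odd {K : Subgroup G} (hidx : K.index = 2) (g : G)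
    (hodd : Odd (orderOf g)) : g ∈ K := by
  obtain ⟨m, hm⟩ := hodd
  have h1 : g ^ 2 ∈ K := Subgroup.sq_mem_of_index_two hidx g
  have h2 : (g ^ 2) ^ (m + 1) = g := by
    rw [← pow_mul]
    have : 2 * (m + 1) = orderOf g + 1 := by omega
    rw [this, pow_succ, pow_orderOf_eq_one, one_mul]
  rw [← h2]
  exact K.pow_mem h1 _

theorem exists_odd_index_two (h2 : ordCnt G 2 = 1) (h4 : ¬ 4 ∣ Nat.card G) :
    ∃ K : Subgroup G, K.Normal ∧ K.index = 2 ∧ Odd (Nat.card K) ∧
      ∀ k, Odd k → ordCnt K k = ordCnt G k := by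
  classical
  have : Fact (Nat.Prime 2) := ⟨Nat.prime_two⟩
  -- the unique involution
  obtain ⟨z, hz⟩ : ∃ z : G, orderOf z = 2 := by
    have : 0 < ordCnt G 2 := by omega
    exact (Cfsg.Agent.Helper20.ordCnt_pos_iff 2).1 this
  have huniq : ∀ g : G, orderOf g = 2 → g = z := by
    intro g hg
    have hcard : Nat.card {g : G // orderOf g = 2} = 1 := h2
    have hsub : Subsingleton {g : G // orderOf g = 2} := (Nat.card_eq_one_iff_unique.1 hcard).1
    exact congrArg Subtype.val (hsub.elim ⟨g, hg⟩ ⟨z, hz⟩)
  have hzc : ∀ g : G, g * z = z * g := by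
    intro g
    have h1 : orderOf (g * z * g⁻¹) = 2 := by
      have := (MulAut.conj g).orderOf_eq z
      rw [MulAut.conj_apply] at this
      rw [this, hz]
    have h3 := huniq _ h1
    calc g * z = g * z * g⁻¹ * g := by group
      _ = z * g := by rw [h3]
  -- a Sylow 2-subgroup has order 2
  let P : Sylow 2 G := default
  have h2dvd : 2 ∣ Nat.card G := hz ▸ orderOf_dvd_natCard z
  have hcardP : Nat.card P = 2 := by
    rw [Sylow.card_eq_multiplicity]
    have hne : Nat.card G ≠ 0 := Nat.card_pos.ne'
    have hf1 : 1 ≤ (Nat.card G).factorization 2 :=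
      (Nat.prime_two.dvd_iff_one_le_factorization hne).1 h2dvd
    have hf2 : (Nat.card G).factorization 2 < 2 := by
      by_contra hcon
      push Not at hcon
      apply h4
      have : 2 ^ 2 ∣ Nat.card G :=
        (Nat.prime_two.pow_dvd_iff_le_factorization hne).2 hcon
      simpa using this
    have : (Nat.card G).factorization 2 = 1 := by omega
    rw [this, pow_one]
  have hPc : ∀ x ∈ (P : Subgroup G), ∀ g : G, g * x = x * g := by
    intro x hx g
    have hdvd : orderOf x ∣ 2 := hcardP ▸ Subgroup.orderOf_dvd_natCard _ hx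
    rcases (Nat.dvd_prime Nat.prime_two).1 hdvd with h | h
    · rw [orderOf_eq_one_iff.1 h, mul_one, one_mul]
    · rw [huniq x h]; exact hzc g
  have hP : Subgroup.normalizer ((P : Subgroup G) : Set G) ≤ Subgroup.centralizer (P : Set G) := by
    intro n _
    rw [Subgroup.mem_centralizer_iff]
    intro h hh
    exact (hPc h hh n).symm
  have hcompl := MonoidHom.ker_transferSylow_isComplement' P hP
  refine ⟨(MonoidHom.transferSylow P hP).ker, MonoidHom.normal_ker _, ?_, ?_, ?_⟩
  · rw [hcompl.symm.index_eq_card, hcardP]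
  · have hmul := hcompl.card_mul_card
    rw [hcardP] at hmul
    rw [Nat.odd_iff]
    by_contra hcon
    apply h4
    have : Nat.card ((MonoidHom.transferSylow P hP).ker) % 2 = 0 := by omega
    omega
  · have hidx : ((MonoidHom.transferSylow P hP).ker).index = 2 := by
      rw [hcompl.symm.index_eq_card, hcardP]
    intro k hk
    rw [Cfsg.Agent.Helper20.ordCnt_def, Cfsg.Agent.Helper20.ordCnt_def]
    apply Nat.card_congr
    exact
      { toFun := fun x => ⟨(x.1 : G), by rw [Subgroup.orderOf_coe]; exact x.2⟩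
        invFun := fun g =>
          ⟨⟨g.1, sotgrpd_mem_of_odd hidx g.1 (by rw [g.2]; exact hk)⟩, by
            rw [← Subgroup.orderOf_coe]; exact g.2⟩
        left_inv := fun x => by ext; rfl
        right_inv := fun g => by ext; rfl }

end Cfsg.Agent.Lead.SOT
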