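import Mathlib
import Cfsg.Agent.Lib.Helper20.OrderCount
import Cfsg.Agent.Lib.SOT.SOTDefs
import Cfsg.Agent.Lib.SOT.SOTO1
import Cfsg.Agent.Lib.SOT.SOTOdd
import Cfsg.Agent.Lib.SOT.SOTEv4
import Cfsg.Agent.Lib.SOT.SOTGrpA
import Cfsg.Agent.Lib.SOT.SOTGrpB
import Cfsg.Agent.Lib.SOT.SOTGrpC
import Cfsg.Agent.Lib.SOT.SOTGrpD
import Cfsg.Agent.Lib.SOT.SOTSolv

/-!
# Three same-order-type values imply solvable: assembly (row S3996)
-/

set_option autoImplicit false

namespace Cfsg.Agent.Lead.SOT

open Cfsg.Agent.Helper20 (ordCnt)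

variable {G : Type*} [Group G] [Finite G]

/-- values at `k ≥ 3` from the unpacked hypothesis -/
theorem sotmain_vals {m n : ℕ}
    (hv : ∀ g : G, ordCnt G (orderOf g) = 1 ∨ ordCnt G (orderOf g) = m ∨
      ordCnt G (orderOf g) = n) (k : ℕ) (hk : 3 ≤ k) :
    ordCnt G k = 0 ∨ ordCnt G k = m ∨ ordCnt G k = n := by
  by_cases h0 : ordCnt G k = 0
  · exact Or.inl h0
  · right
    obtain ⟨g, hg⟩ := (Cfsg.Agent.Helper20.ordCnt_pos_iff k).1 (Nat.pos_of_ne_zero h0)
    have := hv g
    rw [hg] at this
    rcases this with h1 | h1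
    · exfalso
      have he := even_ordCnt (G := G) hk
      rw [h1] at he
      exact absurd he (by decide)
    · exact h1

/-- the odd case -/
theorem sotmain_odd {m n : ℕ}
    (hv : ∀ k, 3 ≤ k → ordCnt G k = 0 ∨ ordCnt G k = m ∨ ordCnt G k = n)
    (hodd : Odd (Nat.card G)) : Group.IsSolvable G :=
  solvable_of_card_primeFactors_le_two ((fd_of_vals hv).card_primeFactors_le_two hodd)

theorem sot_main
    (h : (((fun m : ℕ => Nat.card {g : G // orderOf g = m}) ''
      Set.range (orderOf : G → ℕ))).ncard = 3) : Group.IsSolvable G := by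
  obtain ⟨m, n, hm1, hn1, hmn, hv⟩ := vals_of_ncard h
  have hvals := sotmain_vals hv
  rcases Nat.even_or_odd (Nat.card G) with heven | hodd
  swap
  · exact sotmain_odd hvals hodd
  -- even order
  have h2odd := odd_ordCnt_two heven
  by_cases h21 : ordCnt G 2 = 1
  · -- unique involution
    by_cases h4 : 4 ∣ Nat.card G
    · apply solvable_of_one_odd_prime
      intro p q hp hq hp2 hq2 hpN hqN
      by_contra hpq
      exact (fd_of_vals hvals).ev4_main h4 h21 (fun k hk => ordCnt_two_mul h21 hk) hp hq hp2 hq2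
        hpq hpN hqN
    · obtain ⟨K, hKn, hKi, hKodd, hKc⟩ := exists_odd_index_two h21 h4
      have hKvals : ∀ k, 3 ≤ k → ordCnt K k = 0 ∨ ordCnt K k = m ∨ ordCnt K k = n := by
        intro k hk
        rcases Nat.even_or_odd k with hke | hko
        · left
          apply Cfsg.Agent.Helper20.ordCnt_eq_zero
          rintro ⟨g, hg⟩
          have hd : orderOf g ∣ Nat.card K := orderOf_dvd_natCard g
          rw [hg] at hd
          have h2 : 2 ∣ Nat.card K := (even_iff_two_dvd.1 hke).trans hd
          exact (Nat.not_even_iff_odd.2 hKodd) (even_iff_two_dvd.2 h2)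
        · rw [hKc k hko]
          exact hvals k hk
      haveI : Group.IsSolvable K := sotmain_odd hKvals hKodd
      haveI := hKn
      exact solvable_of_index_two K hKi
  · -- `ordCnt G 2` is `m` or `n`, and odd; all values at `k ≥ 3` are even
    have h2ne : ordCnt G 2 ≠ 0 := by
      intro h0
      rw [h0] at h2odd
      exact absurd h2odd (by decide)
    obtain ⟨g, hg⟩ := (Cfsg.Agent.Helper20.ordCnt_pos_iff 2).1 (Nat.pos_of_ne_zero h2ne)
    have h2v := hv g
    rw [hg] at h2v
    -- the common value `v` of all `k ≥ 3`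
    have key : ∀ v w : ℕ, ordCnt G 2 = w →
        (∀ k, 3 ≤ k → ordCnt G k = 0 ∨ ordCnt G k = w ∨ ordCnt G k = v) →
        Group.IsSolvable G := by
      intro v w hw hvw
      have hvv : ∀ k, 3 ≤ k → ordCnt G k = 0 ∨ ordCnt G k = v ∨ ordCnt G k = v := by
        intro k hk
        rcases hvw k hk with h0 | h1 | h1
        · exact Or.inl h0
        · exfalso
          have he := even_ordCnt (G := G) hk
          rw [h1, ← hw] at he
          exact (Nat.not_even_iff_odd.2 h2odd) he
        · exact Or.inr (Or.inl h1)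
      apply solvable_of_one_odd_prime
      intro p q hp hq hp2 hq2 hpN hqN
      by_contra hpq
      have hfd := fd_of_vals hvv
      have hsp : ordCnt G p = v := by
        rcases hfd.prime_val hp hp2 hpN with h1 | h1 <;> exact h1
      have hsq : ordCnt G q = v := by
        rcases hfd.prime_val hq hq2 hqN with h1 | h1 <;> exact h1
      exact (hfd.same_class hp hq hp2 hq2 hpq hpN hqN hsp hsq).2.2.2.2.2 rfl
    rcases h2v with h1 | h1 | h1
    · exact absurd h1 h21
    · exact key n m h1 hvals
    · exact key m n h1 (fun k hk => by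
        rcases hvals k hk with h0 | h0 | h0
        · exact Or.inl h0
        · exact Or.inr (Or.inr h0)
        · exact Or.inr (Or.inl h0))

end Cfsg.Agent.Lead.SOT
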